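import Cfsg.Agent.H663.AltD.Primes

/-!
# S5734, the alternating groups (helper663)

`alt` : there is `c > 0` such that `c |A_n| ≤ log |A_n : K| * nd K` for all `n ≥ 5` and all maximal subgroups `K`.
-/

set_option autoImplicit false

namespace Cfsg.Agent.H663.AltD

open Equiv Equiv.Perm Cfsg.Agent.H851.Dg
open scoped Nat

variable {n : ℕ}

theorem pow_le_choose {c : ℕ} (hc : 1 ≤ c) : ∀ (k n : ℕ), c * k ≤ n → c ^ k ≤ n.choose k := by
  intro k
  induction k with
  | zero => intro n _; simp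
  | succ k ih =>
    intro n hn
    obtain ⟨n, rfl⟩ : ∃ n', n = n' + 1 := ⟨n - 1, by
      have : 1 ≤ c * (k + 1) := Nat.mul_pos hc (Nat.succ_pos k)
      omega⟩
    have h1 := ih n (by
      have : c * (k + 1) = c * k + c := by ring
      omega)
    have h2 := Nat.add_one_mul_choose_eq n k
    have h3 : c ^ (k + 1) * (k + 1) ≤ (n + 1).choose (k + 1) * (k + 1) := by
      rw [← h2]
      calc c ^ (k + 1) * (k + 1) = (c * (k + 1)) * c ^ k := by ring
        _ ≤ (n + 1) * n.choose k := Nat.mul_le_mul hn h1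
    exact Nat.le_of_mul_le_mul_right h3 (Nat.succ_pos k)

/-- a small invariant set of an intransitive group -/
theorem exists_inv {K : Subgroup (alternatingGroup (Fin n))}
    (h : ¬ ∀ a b : Fin n, ∃ x ∈ K, (x : Perm (Fin n)) a = b) :
    ∃ s : Finset (Fin n), Inv K s ∧ 0 < s.card ∧ 2 * s.card ≤ n := by
  classical
  push Not at h
  obtain ⟨a, b, hab⟩ := h
  let s : Finset (Fin n) := Finset.univ.filter fun c => ∃ x ∈ K, (x : Perm (Fin n)) a = c
  have hs : ∀ c, c ∈ s ↔ ∃ x ∈ K, (x : Perm (Fin n)) a = c := fun c => by simp [s]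
  have hinv : Inv K s := by
    intro x hx c
    rw [hs, hs]
    constructor
    · rintro ⟨y, hy, hyc⟩
      refine ⟨x⁻¹ * y, K.mul_mem (K.inv_mem hx) hy, ?_⟩
      have h1 : ((x⁻¹ * y : alternatingGroup (Fin n)) : Perm (Fin n)) a = (x.1)⁻¹ ((y : Perm (Fin n)) a) := rfl
      rw [h1, hyc, ← Perm.mul_apply, inv_mul_cancel, Perm.one_apply]
    · rintro ⟨y, hy, hyc⟩
      refine ⟨x * y, K.mul_mem hx hy, ?_⟩
      have h1 : ((x * y : alternatingGroup (Fin n)) : Perm (Fin n)) a = x.1 ((y : Perm (Fin n)) a) := rfl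
      rw [h1, hyc]
  have ha : a ∈ s := (hs a).2 ⟨1, K.one_mem, rfl⟩
  have hb : b ∉ s := fun h => by
    obtain ⟨x, hx, hxb⟩ := (hs b).1 h
    exact hab x hx hxb
  by_cases h2 : 2 * s.card ≤ n
  · exact ⟨s, hinv, Finset.card_pos.2 ⟨a, ha⟩, h2⟩
  · refine ⟨sᶜ, fun x hx c => ?_, Finset.card_pos.2 ⟨b, Finset.mem_compl.2 hb⟩, ?_⟩
    · rw [Finset.mem_compl, Finset.mem_compl, hinv x hx c]
    · rw [Finset.card_compl, Fintype.card_fin]
      omega

theorem trans_case {N : ℕ} (h5 : 5 ≤ N)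
    (hN : ∀ n : ℕ, N ≤ n → (n : ℝ) / 10 ≤ Real.log ((∏ p ∈ prs n, p : ℕ) : ℝ)) (hn : N ≤ n)
    {K : Subgroup (alternatingGroup (Fin n))} (hK : K ≠ ⊤)
    (ht : ∀ a b : Fin n, ∃ x ∈ K, (x : Perm (Fin n)) a = b) :
    1 / 10 * (Nat.card (alternatingGroup (Fin n)) : ℝ) ≤ Real.log K.index * nd K := by
  have h1 := hN n hn
  have hn0 : (0 : ℝ) < n := by exact_mod_cast (by omega : 0 < n)
  have hne : (prs n).Nonempty := by
    by_contra hne
    rw [Finset.not_nonempty_iff_eq_empty] at hne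
    rw [hne, Finset.prod_empty, Nat.cast_one, Real.log_one] at h1
    linarith
  have h2 : (Nat.card (alternatingGroup (Fin n)) : ℝ) ≤ n * nd K := by exact_mod_cast nd_ge hK ht hne
  have h3 : (n : ℝ) / 10 ≤ Real.log K.index := by
    refine h1.trans (Real.log_le_log ?_ (by exact_mod_cast index_ge hK ht))
    exact_mod_cast Finset.prod_pos fun p hp => (mem_prs.1 hp).2.1.pos
  have h4 : (0 : ℝ) ≤ nd K := Nat.cast_nonneg _
  nlinarith [mul_le_mul_of_nonneg_right h3 h4]

theorem small_case {K : Subgroup (alternatingGroup (Fin n))} {s : Finset (Fin n)} (h : Inv K s) (h0 : 0 < s.card)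
    (h3 : 3 * s.card + 1 ≤ n) :
    Real.log (3 / 2) / 5 * (Nat.card (alternatingGroup (Fin n)) : ℝ) ≤ Real.log K.index * nd K := by
  have hk0 : (0 : ℝ) < s.card := by exact_mod_cast h0
  have h1 := xx_ge (k := s.card) h0 n h3 1
  have hf : (0 : ℝ) < (n ! : ℝ) := by exact_mod_cast n.factorial_pos
  rw [xx, le_div_iff₀ hf] at h1
  have h2 : (2 * Nat.card (alternatingGroup (Fin n)) : ℝ) = (n ! : ℝ) := by
    exact_mod_cast two_mul_card (n := n) (by omega)
  have h4 : (XX s.card 1 n : ℝ) ≤ nd K := by exact_mod_cast h.nd_ge_good h0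
  have h5 : (Nat.card (alternatingGroup (Fin n)) : ℝ) / (5 * s.card) ≤ nd K := by
    refine le_trans (le_trans (le_of_eq ?_) h1) h4
    rw [← h2]
    field_simp
    ring
  have h6 : (s.card : ℝ) * Real.log (3 / 2) ≤ Real.log K.index := by
    have h7 := (pow_le_choose (c := 3) (by norm_num) s.card n (by omega)).trans (h.two_index_ge (by omega))
    have h8 : (3 / 2 : ℝ) ^ s.card ≤ K.index := by
      have h9 : (3 : ℝ) ^ s.card ≤ 2 * K.index := by exact_mod_cast h7
      have h10 : (2 : ℝ) ≤ 2 ^ s.card := by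
        calc (2 : ℝ) = 2 ^ 1 := (pow_one _).symm
          _ ≤ 2 ^ s.card := pow_le_pow_right₀ (by norm_num) h0
      rw [div_pow, div_le_iff₀ (by positivity)]
      have h11 : (0 : ℝ) ≤ K.index := Nat.cast_nonneg _
      nlinarith
    rw [← Real.log_pow]
    exact Real.log_le_log (by positivity) h8
  have h7 : (0 : ℝ) ≤ Real.log (3 / 2) := Real.log_nonneg (by norm_num)
  calc Real.log (3 / 2) / 5 * (Nat.card (alternatingGroup (Fin n)) : ℝ)
      = ((s.card : ℝ) * Real.log (3 / 2)) * ((Nat.card (alternatingGroup (Fin n)) : ℝ) / (5 * s.card)) := by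
        field_simp
    _ ≤ Real.log K.index * nd K := by
        apply mul_le_mul h6 h5 (by positivity)
        exact le_trans (by positivity) h6

theorem mid_case {K : Subgroup (alternatingGroup (Fin n))} {s : Finset (Fin n)} (h : Inv K s) (h12 : 12 ≤ n)
    (h2 : 2 * s.card ≤ n) (h3 : n ≤ 3 * s.card) :
    Real.log 2 / 6 * (Nat.card (alternatingGroup (Fin n)) : ℝ) ≤ Real.log K.index * nd K := by
  have h1 : (Nat.card (alternatingGroup (Fin n)) : ℝ) ≤ n * nd K := by
    exact_mod_cast h.nd_ge_mk (by omega) (by omega)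
  have hl2 : 0 < Real.log 2 := Real.log_pos (by norm_num)
  have h6 : ((s.card : ℝ) - 1) * Real.log 2 ≤ Real.log K.index := by
    have h7 := (pow_le_choose (c := 2) (by norm_num) s.card n (by omega)).trans (h.two_index_ge (by omega))
    have h8 : 2 ^ (s.card - 1) ≤ K.index := by
      have h9 : 2 ^ s.card = 2 * 2 ^ (s.card - 1) := by
        rw [← pow_succ', Nat.sub_add_cancel (by omega)]
      omega
    have h9 : ((s.card - 1 : ℕ) : ℝ) = (s.card : ℝ) - 1 := by
      rw [Nat.cast_sub (by omega), Nat.cast_one]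
    rw [← h9, ← Real.log_pow]
    exact Real.log_le_log (by positivity) (by exact_mod_cast h8)
  have h7 : (n : ℝ) / 6 ≤ (s.card : ℝ) - 1 := by
    have h8 : (n : ℝ) ≤ 3 * s.card := by exact_mod_cast h3
    have h9 : (12 : ℝ) ≤ n := by exact_mod_cast h12
    linarith
  have h8 : (n : ℝ) / 6 * Real.log 2 ≤ Real.log K.index :=
    (mul_le_mul_of_nonneg_right h7 hl2.le).trans h6
  have h9 : (0 : ℝ) ≤ nd K := Nat.cast_nonneg _
  calc Real.log 2 / 6 * (Nat.card (alternatingGroup (Fin n)) : ℝ) ≤ Real.log 2 / 6 * (n * nd K) :=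
        mul_le_mul_of_nonneg_left h1 (by positivity)
    _ = (n : ℝ) / 6 * Real.log 2 * nd K := by ring
    _ ≤ Real.log K.index * nd K := mul_le_mul_of_nonneg_right h8 h9

theorem bounded_case {N : ℕ} (h5 : 5 ≤ n) (hn : n ≤ N) {K : Subgroup (alternatingGroup (Fin n))} (hK : K ≠ ⊤) :
    Real.log 2 / (N ! : ℝ) * (Nat.card (alternatingGroup (Fin n)) : ℝ) ≤ Real.log K.index * nd K := by
  have hl2 : 0 < Real.log 2 := Real.log_pos (by norm_num)
  have h1 : (1 : ℝ) ≤ nd K := by exact_mod_cast one_le_nd hK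
  have h2 : Real.log 2 ≤ Real.log K.index := by
    apply Real.log_le_log (by norm_num)
    have h6 := Subgroup.index_ne_zero_of_finite (H := K)
    have h7 : K.index ≠ 1 := fun h => hK (Subgroup.index_eq_one.1 h)
    exact_mod_cast (by omega : 2 ≤ K.index)
  have hf : (0 : ℝ) < (N ! : ℝ) := by exact_mod_cast N.factorial_pos
  have h3 : (Nat.card (alternatingGroup (Fin n)) : ℝ) ≤ (N ! : ℝ) := by
    have h4 := two_mul_card (n := n) (by omega)
    have h5 := Nat.factorial_le hn
    exact_mod_cast (by omega : Nat.card (alternatingGroup (Fin n)) ≤ N !)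
  have h4 : Real.log 2 / (N ! : ℝ) * (Nat.card (alternatingGroup (Fin n)) : ℝ) ≤ Real.log 2 := by
    rw [div_mul_eq_mul_div, div_le_iff₀ hf]
    exact mul_le_mul_of_nonneg_left h3 hl2.le
  nlinarith

/-- **S5734 for the alternating groups.** -/
theorem alt : ∃ c : ℝ, 0 < c ∧ ∀ n : ℕ, 5 ≤ n → ∀ K : Subgroup (alternatingGroup (Fin n)), IsCoatom K →
    c * (Nat.card (alternatingGroup (Fin n)) : ℝ) ≤ Real.log K.index * nd K := by
  obtain ⟨N, hN5, hN⟩ := log_prs
  have hl2 : 0 < Real.log 2 := Real.log_pos (by norm_num)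
  have hl3 : 0 < Real.log (3 / 2) := Real.log_pos (by norm_num)
  have hf : (0 : ℝ) < ((N + 12)! : ℝ) := by exact_mod_cast (N + 12).factorial_pos
  refine ⟨min (min (1 / 10) (Real.log (3 / 2) / 5)) (min (Real.log 2 / 6) (Real.log 2 / ((N + 12)! : ℝ))),
    lt_min (lt_min (by norm_num) (by positivity)) (lt_min (by positivity) (by positivity)), ?_⟩
  intro n hn K hK
  have hc : (0 : ℝ) ≤ (Nat.card (alternatingGroup (Fin n)) : ℝ) := Nat.cast_nonneg _
  have m1 := (min_le_left (min (1 / 10 : ℝ) (Real.log (3 / 2) / 5))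
    (min (Real.log 2 / 6) (Real.log 2 / ((N + 12)! : ℝ))))
  have m2 := (min_le_right (min (1 / 10 : ℝ) (Real.log (3 / 2) / 5))
    (min (Real.log 2 / 6) (Real.log 2 / ((N + 12)! : ℝ))))
  by_cases hbig : N + 12 ≤ n
  · by_cases ht : ∀ a b : Fin n, ∃ x ∈ K, (x : Perm (Fin n)) a = b
    · exact (mul_le_mul_of_nonneg_right (m1.trans (min_le_left _ _)) hc).trans
        (trans_case hN5 hN (by omega) hK.1 ht)
    · obtain ⟨s, hs, h0, h2⟩ := exists_inv ht
      by_cases h3 : 3 * s.card + 1 ≤ n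
      · exact (mul_le_mul_of_nonneg_right (m1.trans (min_le_right _ _)) hc).trans (small_case hs h0 h3)
      · exact (mul_le_mul_of_nonneg_right (m2.trans (min_le_left _ _)) hc).trans
          (mid_case hs (by omega) h2 (by omega))
  · exact (mul_le_mul_of_nonneg_right (m2.trans (min_le_right _ _)) hc).trans
      (bounded_case hn (by omega) hK.1)

end Cfsg.Agent.H663.AltD
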