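import Mathlib

/-!
# S5734, the alternating groups: counting permutations by the cycle of a point (helper663)

* `mk e h` : the permutation of `Fin n` with the cycle `e ∘ inl` of length `l + 1`, and `h` on the rest;
* `count` : the number of pairs `(mk e h, e (inl 0))` with `Q h`.
-/

set_option autoImplicit false

namespace Cfsg.Agent.H663.AltD

open Equiv Equiv.Perm
open scoped Nat

variable {n l r : ℕ}

/-- the permutation with the cycle `e ∘ inl` of length `l + 1`, and `h` on the rest -/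
def mk (e : Fin (l + 1) ⊕ Fin r ≃ Fin n) (h : Perm (Fin r)) : Perm (Fin n) :=
  e.permCongr (Equiv.Perm.sumCongr (finRotate (l + 1)) h)

theorem mk_inl (e : Fin (l + 1) ⊕ Fin r ≃ Fin n) (h : Perm (Fin r)) (i : Fin (l + 1)) :
    mk e h (e (Sum.inl i)) = e (Sum.inl (i + 1)) := by
  simp [mk, Equiv.permCongr_apply]

theorem mk_inr (e : Fin (l + 1) ⊕ Fin r ≃ Fin n) (h : Perm (Fin r)) (i : Fin r) :
    mk e h (e (Sum.inr i)) = e (Sum.inr (h i)) := by
  simp [mk, Equiv.permCongr_apply]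

theorem sign_mk (e : Fin (l + 1) ⊕ Fin r ≃ Fin n) (h : Perm (Fin r)) :
    sign (mk e h) = (-1) ^ l * sign h := by
  rw [mk, Equiv.Perm.sign_permCongr, Equiv.Perm.sign_sumCongr, sign_finRotate, Nat.add_sub_cancel]

theorem val_rot (j : ℕ) (i : Fin (l + 1)) : (((finRotate (l + 1)) ^ j) i).val = (i.val + j) % (l + 1) := by
  induction j generalizing i with
  | zero => simp [Nat.mod_eq_of_lt i.2]
  | succ j ih =>
    rw [pow_succ, Perm.mul_apply, ih, finRotate_apply, Fin.val_add, Fin.val_one', Nat.add_mod, Nat.mod_mod,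
      Nat.add_mod (i.val), Nat.mod_mod, ← Nat.add_mod i.val, ← Nat.add_mod, add_assoc, add_comm 1]

theorem mk_pow_inl (e : Fin (l + 1) ⊕ Fin r ≃ Fin n) (h : Perm (Fin r)) (j : ℕ) (i : Fin (l + 1)) :
    (mk e h ^ j) (e (Sum.inl i)) = e (Sum.inl (((finRotate (l + 1)) ^ j) i)) := by
  induction j generalizing i with
  | zero => simp
  | succ j ih => rw [pow_succ, Perm.mul_apply, mk_inl, ih, pow_succ, Perm.mul_apply, finRotate_apply]

theorem mk_pow_inr (e : Fin (l + 1) ⊕ Fin r ≃ Fin n) (h : Perm (Fin r)) (j : ℕ) (i : Fin r) :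
    (mk e h ^ j) (e (Sum.inr i)) = e (Sum.inr ((h ^ j) i)) := by
  induction j generalizing i with
  | zero => simp
  | succ j ih => rw [pow_succ, Perm.mul_apply, mk_inr, ih, pow_succ, Perm.mul_apply]

theorem mk_injective (e : Fin (l + 1) ⊕ Fin r ≃ Fin n) : Function.Injective (mk e) := by
  intro h h' hh
  ext i
  have h1 := mk_inr e h i
  rw [hh, mk_inr e h' i] at h1
  have h2 := Sum.inr_injective (e.injective h1)
  rw [h2]

/-- equality on the cycle -/
theorem eq_inl {e e' : Fin (l + 1) ⊕ Fin r ≃ Fin n} {h h' : Perm (Fin r)} (hg : mk e h = mk e' h')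
    (h0 : e (Sum.inl 0) = e' (Sum.inl 0)) (i : Fin (l + 1)) : e (Sum.inl i) = e' (Sum.inl i) := by
  induction i using Fin.induction with
  | zero => exact h0
  | succ i ih =>
    rw [← Fin.coeSucc_eq_succ, ← mk_inl e h, ← mk_inl e' h', hg, ih]

theorem exists_tau {e e' : Fin (l + 1) ⊕ Fin r ≃ Fin n} (h : ∀ i, e (Sum.inl i) = e' (Sum.inl i)) :
    ∃ τ : Perm (Fin r), e = (Equiv.Perm.sumCongr 1 τ).trans e' := by
  have h1 : ∀ i, (e.trans e'.symm : Perm (Fin (l + 1) ⊕ Fin r)) (Sum.inl i) = Sum.inl i := by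
    intro i
    rw [Equiv.trans_apply, h, Equiv.symm_apply_apply]
  have h2 : (e.trans e'.symm : Perm (Fin (l + 1) ⊕ Fin r)) ∈ (sumCongrHom (Fin (l + 1)) (Fin r)).range := by
    apply mem_sumCongrHom_range_of_perm_mapsTo_inl
    rintro _ ⟨i, rfl⟩
    exact ⟨i, (h1 i).symm⟩
  obtain ⟨⟨σ, τ⟩, hστ⟩ := h2
  refine ⟨τ, ?_⟩
  have hσ : σ = 1 := by
    ext i
    have h3 := h1 i
    rw [← hστ] at h3
    have h4 : Sum.inl (σ i) = (Sum.inl i : Fin (l + 1) ⊕ Fin r) := h3
    rw [Sum.inl_injective h4]; rfl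
  rw [hσ] at hστ
  have h5 : Equiv.Perm.sumCongr 1 τ = (e.trans e'.symm : Perm (Fin (l + 1) ⊕ Fin r)) := hστ
  rw [h5]
  ext x
  simp

/-- the pairs `(g, a)` with `g = mk e h`, `Q h`, `a = e (inl 0)` -/
def PS (n l r : ℕ) (Q : Perm (Fin r) → Prop) : Set (Perm (Fin n) × Fin n) :=
  {x | ∃ (e : Fin (l + 1) ⊕ Fin r ≃ Fin n) (h : Perm (Fin r)), Q h ∧ x = (mk e h, e (Sum.inl 0))}

theorem count (hn : l + 1 + r = n) (Q : Perm (Fin r) → Prop) :
    n ! * Nat.card {h : Perm (Fin r) // Q h} ≤ r ! * Nat.card (PS n l r Q) := by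
  classical
  have hE : Nat.card (Fin (l + 1) ⊕ Fin r ≃ Fin n) = n ! := by
    have e0 : Fin (l + 1) ⊕ Fin r ≃ Fin n := finSumFinEquiv.trans (finCongr hn)
    rw [Nat.card_eq_fintype_card, Fintype.card_equiv e0, Fintype.card_sum, Fintype.card_fin, Fintype.card_fin, hn]
  have hR : Nat.card (Perm (Fin r)) = r ! := by
    rw [Nat.card_eq_fintype_card, Fintype.card_perm, Fintype.card_fin]
  rw [← hE, ← hR, ← Nat.card_prod, ← Nat.card_prod]
  -- the pair of `(e, h)`
  let f : (Fin (l + 1) ⊕ Fin r ≃ Fin n) × {h : Perm (Fin r) // Q h} → PS n l r Q :=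
    fun x => ⟨(mk x.1 x.2.1, x.1 (Sum.inl 0)), x.1, x.2.1, x.2.2, rfl⟩
  have hc : ∀ s : PS n l r Q, ∃ e : Fin (l + 1) ⊕ Fin r ≃ Fin n, ∃ h : Perm (Fin r), Q h ∧
      s.1 = (mk e h, e (Sum.inl 0)) := fun s => s.2
  choose E H hQ hs using hc
  have ht : ∀ x : (Fin (l + 1) ⊕ Fin r ≃ Fin n) × {h : Perm (Fin r) // Q h},
      ∃ τ : Perm (Fin r), x.1 = (Equiv.Perm.sumCongr 1 τ).trans (E (f x)) := by
    intro x
    have h1 := hs (f x)
    have h2 : mk x.1 x.2.1 = mk (E (f x)) (H (f x)) := congrArg Prod.fst h1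
    have h3 : x.1 (Sum.inl 0) = E (f x) (Sum.inl 0) := congrArg Prod.snd h1
    exact exists_tau (eq_inl h2 h3)
  choose τ hτ using ht
  refine Nat.card_le_card_of_injective (fun x => (τ x, f x)) ?_
  intro x y hxy
  have h1 : τ x = τ y := congrArg Prod.fst hxy
  have h2 : f x = f y := congrArg Prod.snd hxy
  have h3 : x.1 = y.1 := by rw [hτ x, hτ y, h1, h2]
  have h4 : mk x.1 x.2.1 = mk y.1 y.2.1 := congrArg Prod.fst (congrArg Subtype.val h2)
  rw [h3] at h4
  exact Prod.ext h3 (Subtype.ext (mk_injective _ h4))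

end Cfsg.Agent.H663.AltD
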