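import Cfsg.Agent.H663.AltD.Trans

/-!
# S5734, the alternating groups: the product of the primes between `n / 2` and `n - 3` (helper663)

`log_prs` : it is at least `exp (n / 10)` for large `n`.
-/

set_option autoImplicit false

namespace Cfsg.Agent.H663.AltD

open Finset Nat

/-- the primes in `(m, 2 m]` -/
def qrs (m : ℕ) : Finset ℕ := (Finset.Ico (m + 1) (2 * m + 1)).filter Nat.Prime

theorem centralBinom_le (n : ℕ) (n_large : 2 < n) :
    centralBinom n ≤ (2 * n) ^ sqrt (2 * n) * 4 ^ (2 * n / 3) * ∏ p ∈ qrs n, p := by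
  have n_pos : 0 < n := (Nat.zero_le _).trans_lt n_large
  have n2_pos : 1 ≤ 2 * n := mul_pos (zero_lt_two' ℕ) n_pos
  let f x := x ^ n.centralBinom.factorization x
  have hf : ∀ x, ¬ x.Prime → f x = 1 := by
    intro x hx
    dsimp only [f]
    rw [factorization_eq_zero_of_not_prime n.centralBinom hx, _root_.pow_zero]
  have h0 : n.centralBinom = (∏ x ∈ Finset.range (2 * n / 3 + 1), f x) * ∏ x ∈ Finset.Ico (2 * n / 3 + 1) (2 * n + 1), f x := by
    rw [← n.prod_pow_factorization_centralBinom, Finset.range_eq_Ico, Finset.range_eq_Ico]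
    exact (Finset.prod_Ico_consecutive f (Nat.zero_le _) (by omega)).symm
  rw [h0]
  apply mul_le_mul'
  · let S := {p ∈ Finset.range (2 * n / 3 + 1) | Nat.Prime p}
    have : ∏ x ∈ S, f x = ∏ x ∈ Finset.range (2 * n / 3 + 1), f x := by
      refine Finset.prod_filter_of_ne fun p _ h => ?_
      by_contra hp
      exact h (hf p hp)
    rw [← this, ← Finset.prod_filter_mul_prod_filter_not S (· ≤ sqrt (2 * n))]
    apply mul_le_mul'
    · refine (Finset.prod_le_prod' fun p _ => (?_ : f p ≤ 2 * n)).trans ?_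
      · exact pow_factorization_choose_le (mul_pos two_pos n_pos)
      have : (Finset.Icc 1 (sqrt (2 * n))).card = sqrt (2 * n) := by rw [card_Icc, Nat.add_sub_cancel]
      rw [Finset.prod_const]
      refine pow_right_mono₀ n2_pos ((Finset.card_le_card fun x hx => ?_).trans this.le)
      obtain ⟨h1, h2⟩ := Finset.mem_filter.1 hx
      exact Finset.mem_Icc.mpr ⟨(Finset.mem_filter.1 h1).2.one_lt.le, h2⟩
    · refine le_trans ?_ (primorial_le_four_pow (2 * n / 3))
      refine (Finset.prod_le_prod' fun p hp => (?_ : f p ≤ p)).trans ?_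
      · obtain ⟨h1, h2⟩ := Finset.mem_filter.1 hp
        refine (pow_right_mono₀ (Finset.mem_filter.1 h1).2.one_lt.le ?_).trans (pow_one p).le
        exact Nat.factorization_choose_le_one (sqrt_lt'.mp <| not_le.1 h2)
      refine Finset.prod_le_prod_of_subset_of_one_le' (Finset.filter_subset _ _) ?_
      exact fun p hp _ => (Finset.mem_filter.1 hp).2.one_lt.le
  · have h1 : ∏ x ∈ Finset.Ico (2 * n / 3 + 1) (2 * n + 1), f x = ∏ x ∈ qrs n, f x := by
      symm
      apply Finset.prod_subset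
      · intro x hx
        obtain ⟨h1, -⟩ := Finset.mem_filter.1 hx
        rw [Finset.mem_Ico] at h1 ⊢
        exact ⟨by omega, h1.2⟩
      · intro x hx h2x
        rw [Finset.mem_Ico] at hx
        by_cases hp : x.Prime
        · have hxn : x ≤ n := by
            by_contra h
            exact h2x (Finset.mem_filter.2 ⟨Finset.mem_Ico.2 ⟨by omega, hx.2⟩, hp⟩)
          dsimp only [f]
          rw [factorization_centralBinom_of_two_mul_self_lt_three_mul n_large hxn (by omega), Nat.pow_zero]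
        · exact hf x hp
    rw [h1]
    refine Finset.prod_le_prod' fun p hp => ?_
    obtain ⟨h1, h2⟩ := Finset.mem_filter.1 hp
    rw [Finset.mem_Ico] at h1
    refine (pow_right_mono₀ h2.one_lt.le ?_).trans (pow_one p).le
    exact Nat.factorization_choose_le_one (by nlinarith)

theorem qrs_le (n : ℕ) (hn : 1 ≤ n) : ∏ p ∈ qrs (n / 2), p ≤ n ^ 3 * ∏ p ∈ prs n, p := by
  have hsub : qrs (n / 2) ⊆ (qrs (n / 2) \ prs n) ∪ prs n := by
    intro p hp
    by_cases h : p ∈ prs n
    · exact Finset.mem_union_right _ h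
    · exact Finset.mem_union_left _ (Finset.mem_sdiff.2 ⟨hp, h⟩)
  have hone : ∀ p ∈ (qrs (n / 2) \ prs n) ∪ prs n, 1 ≤ p := by
    intro p hp
    rcases Finset.mem_union.1 hp with h | h
    · have := (Finset.mem_filter.1 (Finset.mem_sdiff.1 h).1).2.one_lt
      omega
    · have := (mem_prs.1 h).2.1.one_lt
      omega
  refine (Finset.prod_le_prod_of_subset_of_one_le' hsub fun p hp _ => hone p hp).trans ?_
  rw [Finset.prod_union (Finset.sdiff_disjoint)]
  apply mul_le_mul' _ le_rfl
  have h1 : (qrs (n / 2) \ prs n) ⊆ Finset.Icc (n - 2) n := by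
    intro p hp
    obtain ⟨h1, h2⟩ := Finset.mem_sdiff.1 hp
    obtain ⟨h3, h4⟩ := Finset.mem_filter.1 h1
    rw [Finset.mem_Ico] at h3
    rw [mem_prs] at h2
    rw [Finset.mem_Icc]
    constructor
    · by_contra h5
      exact h2 ⟨by omega, h4, by omega⟩
    · omega
  calc ∏ p ∈ qrs (n / 2) \ prs n, p ≤ ∏ _p ∈ qrs (n / 2) \ prs n, n := by
        refine Finset.prod_le_prod' fun p hp => ?_
        have := Finset.mem_Icc.1 (h1 hp)
        exact this.2
    _ = n ^ (qrs (n / 2) \ prs n).card := Finset.prod_const _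
    _ ≤ n ^ 3 := by
        refine pow_right_mono₀ hn ((Finset.card_le_card h1).trans ?_)
        rw [Nat.card_Icc]
        omega

theorem log_prs : ∃ N : ℕ, 5 ≤ N ∧ ∀ n : ℕ, N ≤ n → (n : ℝ) / 10 ≤ Real.log ((∏ p ∈ prs n, p : ℕ) : ℝ) := by
  have hlo : (fun x : ℝ => Real.log x) =o[Filter.atTop] (fun x : ℝ => x ^ (1 / 2 : ℝ)) :=
    isLittleO_log_rpow_atTop (by norm_num)
  have h1 := (Asymptotics.isLittleO_iff.1 hlo) (c := 1 / 50) (by norm_num)
  obtain ⟨x0, hx0⟩ := Filter.eventually_atTop.1 h1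
  obtain ⟨N0, hN0⟩ := exists_nat_ge x0
  refine ⟨max N0 100, by omega, fun n hn => ?_⟩
  have hn1 : N0 ≤ n := le_trans (le_max_left _ _) hn
  have hn2 : 100 ≤ n := le_trans (le_max_right _ _) hn
  have hx : x0 ≤ (n : ℝ) := hN0.trans (by exact_mod_cast hn1)
  have hlog := hx0 n hx
  have hn100 : (100 : ℝ) ≤ n := by exact_mod_cast hn2
  have hpos : (0 : ℝ) < n := by linarith
  rw [← Real.sqrt_eq_rpow, Real.norm_of_nonneg (Real.log_nonneg (by linarith)),
    Real.norm_of_nonneg (Real.sqrt_nonneg _)] at hlog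
  set m := n / 2 with hm
  have hm4 : 4 ≤ m := by omega
  have hb := Nat.four_pow_lt_mul_centralBinom m hm4
  have hc := centralBinom_le m (by omega)
  have hq := qrs_le n (by omega)
  -- everything in one inequality
  have hall : 4 ^ m ≤ m * ((2 * m) ^ sqrt (2 * m) * 4 ^ (2 * m / 3) * (n ^ 3 * ∏ p ∈ prs n, p)) := by
    refine hb.le.trans (Nat.mul_le_mul_left _ (hc.trans (Nat.mul_le_mul_left _ hq)))
  have hprs : 0 < ∏ p ∈ prs n, p := Finset.prod_pos fun p hp => (mem_prs.1 hp).2.1.pos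
  have hall' : (4 : ℝ) ^ m ≤ m * ((2 * m) ^ sqrt (2 * m) * 4 ^ (2 * m / 3) * (n ^ 3 * ((∏ p ∈ prs n, p : ℕ) : ℝ))) := by
    exact_mod_cast hall
  have hmpos : (0 : ℝ) < m := by exact_mod_cast (by omega : 0 < m)
  have hPpos : (0 : ℝ) < ((∏ p ∈ prs n, p : ℕ) : ℝ) := by exact_mod_cast hprs
  have hL := Real.log_le_log (by positivity) hall'
  have h2mpos : (0 : ℝ) < 2 * m := by positivity
  rw [Real.log_mul (by positivity) (by positivity), Real.log_mul (by positivity) (by positivity),
    Real.log_mul (by positivity) (by positivity), Real.log_mul (by positivity) (by positivity),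
    Real.log_pow, Real.log_pow, Real.log_pow, Real.log_pow] at hL
  set LP := Real.log ((∏ p ∈ prs n, p : ℕ) : ℝ)
  have hmn : (2 * m : ℝ) ≤ n := by exact_mod_cast (by omega : 2 * m ≤ n)
  have hnm : (n : ℝ) ≤ 2 * m + 1 := by exact_mod_cast (by omega : n ≤ 2 * m + 1)
  have hlogm : Real.log m ≤ Real.log n := Real.log_le_log hmpos (by linarith)
  have hlog2m : Real.log (2 * m) ≤ Real.log n := Real.log_le_log h2mpos hmn
  have hlog0 : 0 ≤ Real.log n := Real.log_nonneg (by linarith)
  have hsq : ((sqrt (2 * m) : ℕ) : ℝ) ≤ Real.sqrt n := by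
    refine (Real.nat_sqrt_le_real_sqrt).trans (Real.sqrt_le_sqrt ?_)
    exact_mod_cast hmn
  have hsqn : Real.sqrt n * Real.sqrt n = n := Real.mul_self_sqrt hpos.le
  have hsq1 : 1 ≤ Real.sqrt n := by
    rw [Real.one_le_sqrt]; linarith
  have hdiv : (((2 * m / 3 : ℕ)) : ℝ) ≤ 2 * m / 3 := by
    have := Nat.cast_div_le (α := ℝ) (m := 2 * m) (n := 3)
    push_cast at this
    exact this
  have hlog4 : Real.log 4 = 2 * Real.log 2 := by
    rw [show (4 : ℝ) = 2 ^ 2 by norm_num, Real.log_pow]; norm_num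
  have hl2 := Real.log_two_gt_d9
  have h4pos : 0 < Real.log 4 := Real.log_pos (by norm_num)
  -- the error terms
  have e1 : ((sqrt (2 * m) : ℕ) : ℝ) * Real.log (2 * m) ≤ 1 / 50 * n := by
    calc ((sqrt (2 * m) : ℕ) : ℝ) * Real.log (2 * m) ≤ Real.sqrt n * Real.log n :=
          mul_le_mul hsq hlog2m (Real.log_nonneg (by linarith)) (Real.sqrt_nonneg _)
      _ ≤ Real.sqrt n * (1 / 50 * Real.sqrt n) := mul_le_mul_of_nonneg_left hlog (Real.sqrt_nonneg _)
      _ = 1 / 50 * n := by rw [mul_left_comm, hsqn]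
  have e2 : Real.log n ≤ 1 / 50 * n := by
    refine hlog.trans ?_
    nlinarith
  have e3 : (((2 * m / 3 : ℕ)) : ℝ) * Real.log 4 ≤ 2 * m / 3 * Real.log 4 :=
    mul_le_mul_of_nonneg_right hdiv h4pos.le
  have e4 : (m : ℝ) / 3 * Real.log 4 ≤ LP + 5 * (1 / 50 * n) := by
    push_cast at hL
    nlinarith
  have e5 : (m : ℝ) / 3 * 1.38 ≤ m / 3 * Real.log 4 := by
    apply mul_le_mul_of_nonneg_left _ (by positivity)
    rw [hlog4]; linarith
  linarith

end Cfsg.Agent.H663.AltD
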