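import Cfsg.Agent.H663.AltD.Count

/-!
# S5734, the alternating groups: permutations without short cycles (helper663)

* `Good k g` : `g` has no cycle of length at most `k`;
* `xx k ε m` : the share of the good permutations of sign `ε` of `m` points;
* `xx_rec` : the recursion; `xx_ge` : `1 / (10 k) ≤ xx k ε m` for `3 k + 1 ≤ m`.
-/

set_option autoImplicit false

namespace Cfsg.Agent.H663.AltD

open Equiv Equiv.Perm
open scoped Nat

variable {n l r : ℕ}

/-- no cycle of length at most `k` -/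
def Good (k : ℕ) (g : Perm (Fin n)) : Prop := ∀ i : ℕ, 0 < i → i ≤ k → ∀ a, (g ^ i) a ≠ a

theorem rot_ne {j : ℕ} (h0 : 0 < j) (h1 : j < l + 1) (i : Fin (l + 1)) : ((finRotate (l + 1)) ^ j) i ≠ i := by
  intro h
  have h2 := congrArg Fin.val h
  rw [val_rot] at h2
  have h3 := i.2
  by_cases h4 : i.val + j < l + 1
  · rw [Nat.mod_eq_of_lt h4] at h2
    omega
  · rw [Nat.mod_eq_sub_mod (by omega), Nat.mod_eq_of_lt (by omega)] at h2
    omega

theorem good_mk {k : ℕ} (hk : k ≤ l) (e : Fin (l + 1) ⊕ Fin r ≃ Fin n) {h : Perm (Fin r)} (hh : Good k h) :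
    Good k (mk e h) := by
  intro i h0 hi a ha
  obtain ⟨x, rfl⟩ := e.surjective a
  cases x with
  | inl x =>
    rw [mk_pow_inl] at ha
    exact rot_ne h0 (by omega) x (Sum.inl_injective (e.injective ha))
  | inr x =>
    rw [mk_pow_inr] at ha
    exact hh i h0 hi x (Sum.inr_injective (e.injective ha))

/-- the length of the cycle of `a` is `j` -/
def Per (g : Perm (Fin n)) (a : Fin n) (j : ℕ) : Prop :=
  (g ^ j) a = a ∧ ∀ i : ℕ, 0 < i → i < j → (g ^ i) a ≠ a

theorem per_mk (e : Fin (l + 1) ⊕ Fin r ≃ Fin n) (h : Perm (Fin r)) (i : Fin (l + 1)) :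
    Per (mk e h) (e (Sum.inl i)) (l + 1) := by
  constructor
  · rw [mk_pow_inl]
    congr 2
    apply Fin.ext
    rw [val_rot, Nat.add_mod_right, Nat.mod_eq_of_lt i.2]
  · intro j h0 hj ha
    rw [mk_pow_inl] at ha
    exact rot_ne h0 hj i (Sum.inl_injective (e.injective ha))

theorem Per.unique {g : Perm (Fin n)} {a : Fin n} {i j : ℕ} (hi : 0 < i) (hj : 0 < j) (h : Per g a i)
    (h' : Per g a j) : i = j := by
  rcases lt_trichotomy i j with h1 | h1 | h1
  · exact absurd h.1 (h'.2 i hi h1)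
  · exact h1
  · exact absurd h'.1 (h.2 j hj h1)

/-- the number of good permutations of sign `ε` -/
noncomputable def XX (k : ℕ) (ε : ℤˣ) (m : ℕ) : ℕ := Nat.card {g : Perm (Fin m) // Good k g ∧ sign g = ε}

/-- their share -/
noncomputable def xx (k : ℕ) (ε : ℤˣ) (m : ℕ) : ℝ := XX k ε m / (m ! : ℝ)

theorem xx_nonneg (k : ℕ) (ε : ℤˣ) (m : ℕ) : 0 ≤ xx k ε m := div_nonneg (Nat.cast_nonneg _) (Nat.cast_nonneg _)

theorem units_mul_self (ε : ℤˣ) : ε * ε = 1 := Int.units_mul_self ε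

theorem xx_zero (k : ℕ) : xx k 1 0 = 1 := by
  have h : XX k 1 0 = 1 := by
    rw [XX, Nat.card_eq_one_iff_unique]
    refine ⟨⟨fun a b => Subtype.ext (Subsingleton.elim _ _)⟩, ⟨⟨1, ?_, ?_⟩⟩⟩
    · intro i _ _ a
      exact a.elim0
    · exact sign_one
  rw [xx, h]
  simp

theorem rec_nat (k : ℕ) (ε : ℤˣ) (m : ℕ) (c : ℕ → ℕ)
    (hc : ∀ i < m - k, c i = Nat.card (PS m (m - i - 1) i fun h => Good k h ∧ sign h = ε * (-1) ^ (m - i - 1))) :
    ∑ i ∈ Finset.range (m - k), c i ≤ XX k ε m * m := by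
  classical
  let A : Finset (Perm (Fin m) × Fin m) := Finset.univ.filter fun x => Good k x.1 ∧ sign x.1 = ε
  let B : ℕ → Finset (Perm (Fin m) × Fin m) := fun i =>
    Finset.univ.filter fun x => x ∈ PS m (m - i - 1) i fun h => Good k h ∧ sign h = ε * (-1) ^ (m - i - 1)
  have hA : A.card = XX k ε m * m := by
    have h1 : XX k ε m * m = Nat.card ({g : Perm (Fin m) // Good k g ∧ sign g = ε} × Fin m) := by
      rw [Nat.card_prod, Nat.card_eq_fintype_card (α := Fin m), Fintype.card_fin, XX]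
    rw [h1, ← Nat.card_eq_finsetCard]
    refine Nat.card_congr ⟨fun x => (⟨x.1.1, (Finset.mem_filter.1 x.2).2⟩, x.1.2),
      fun x => ⟨(x.1.1, x.2), Finset.mem_filter.2 ⟨Finset.mem_univ _, x.1.2⟩⟩, fun x => rfl, fun x => rfl⟩
  have hB : ∀ i < m - k, c i = (B i).card := by
    intro i hi
    rw [hc i hi, ← Nat.card_eq_finsetCard]
    refine Nat.card_congr (Equiv.subtypeEquivRight fun x => ?_)
    simp only [B, Finset.mem_filter, Finset.mem_univ, true_and]
  have hper : ∀ i < m - k, ∀ x ∈ B i, Per x.1 x.2 (m - i - 1 + 1) := by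
    intro i hi x hx
    obtain ⟨e, h, -, hx⟩ := (Finset.mem_filter.1 hx).2
    rw [hx]
    exact per_mk e h 0
  rw [← hA, Finset.sum_congr rfl fun i hi => hB i (Finset.mem_range.1 hi), ← Finset.card_biUnion]
  · apply Finset.card_le_card
    intro x hx
    obtain ⟨i, hi, hx⟩ := Finset.mem_biUnion.1 hx
    rw [Finset.mem_range] at hi
    obtain ⟨e, h, ⟨h1, h2⟩, hx⟩ := (Finset.mem_filter.1 hx).2
    refine Finset.mem_filter.2 ⟨Finset.mem_univ _, ?_⟩
    rw [hx]
    refine ⟨good_mk (by omega) e h1, ?_⟩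
    rw [sign_mk, h2, mul_comm ε, ← mul_assoc, ← pow_add, ← two_mul, pow_mul]
    simp
  · intro i hi j hj hij
    rw [Function.onFun, Finset.disjoint_left]
    intro x hxi hxj
    have hi' := Finset.mem_range.1 hi
    have hj' := Finset.mem_range.1 hj
    have := (hper i hi' x hxi).unique (by omega) (by omega) (hper j hj' x hxj)
    omega

/-- **The recursion.** -/
theorem xx_rec (k : ℕ) (ε : ℤˣ) (m : ℕ) :
    ∑ i ∈ Finset.range (m - k), xx k (ε * (-1) ^ (m - i - 1)) i ≤ m * xx k ε m := by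
  have h1 := rec_nat k ε m (fun i => Nat.card (PS m (m - i - 1) i fun h =>
    Good k h ∧ sign h = ε * (-1) ^ (m - i - 1))) fun _ _ => rfl
  have h2 : (m : ℝ) * xx k ε m = ((XX k ε m * m : ℕ) : ℝ) / (m ! : ℝ) := by
    rw [xx, Nat.cast_mul]; ring
  have hm : (0 : ℝ) < (m ! : ℝ) := by exact_mod_cast m.factorial_pos
  rw [h2, le_div_iff₀ hm]
  refine le_trans ?_ (Nat.cast_le.2 h1)
  rw [Nat.cast_sum, Finset.sum_mul]
  refine Finset.sum_le_sum fun i hi => ?_
  rw [Finset.mem_range] at hi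
  have h3 := count (n := m) (l := m - i - 1) (r := i) (by omega) fun h =>
    Good k h ∧ sign h = ε * (-1) ^ (m - i - 1)
  have h4 : (0 : ℝ) < (i ! : ℝ) := by exact_mod_cast i.factorial_pos
  rw [xx, div_mul_eq_mul_div, div_le_iff₀ h4, mul_comm _ (m ! : ℝ), mul_comm _ (i ! : ℝ)]
  exact_mod_cast h3

theorem xx_rec' (k : ℕ) (ε : ℤˣ) (m : ℕ) (s : Finset ℕ) (hs : ∀ i ∈ s, i + k < m) :
    ∑ i ∈ s, xx k (ε * (-1) ^ (m - i - 1)) i ≤ m * xx k ε m := by
  refine le_trans (Finset.sum_le_sum_of_subset_of_nonneg ?_ fun _ _ _ => xx_nonneg _ _ _) (xx_rec k ε m)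
  intro i hi
  have := hs i hi
  rw [Finset.mem_range]
  omega

/-- one cycle -/
theorem xx_one {k m : ℕ} (hm : k < m) {ε : ℤˣ} (hε : ε * (-1) ^ (m - 1) = 1) : 1 / (m : ℝ) ≤ xx k ε m := by
  have h1 := xx_rec' k ε m {0} (by simpa using hm)
  rw [Finset.sum_singleton, Nat.sub_zero, hε, xx_zero] at h1
  have h2 : (0 : ℝ) < m := by exact_mod_cast (by omega : 0 < m)
  rw [div_le_iff₀ h2]
  linarith [mul_comm (xx k ε m) (m : ℝ)]

theorem neg_one_pow_mul (a : ℕ) : ((-1 : ℤˣ)) ^ a * (-1) ^ a = 1 := by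
  rw [← pow_add, ← two_mul, pow_mul]; simp

/-- the start of the sum is at least `1/2` -/
theorem half_le {k m : ℕ} (hk : 1 ≤ k) (hm : 3 * k + 1 ≤ m) (ε : ℤˣ) :
    1 / 2 ≤ ∑ i ∈ Finset.range (2 * k + 1), xx k (ε * (-1) ^ (m - i - 1)) i := by
  by_cases hε : ε * (-1) ^ (m - 1) = 1
  · have h1 : xx k (ε * (-1) ^ (m - 0 - 1)) 0 ≤ ∑ i ∈ Finset.range (2 * k + 1), xx k (ε * (-1) ^ (m - i - 1)) i :=
      Finset.single_le_sum (f := fun i => xx k (ε * (-1) ^ (m - i - 1)) i) (fun _ _ => xx_nonneg _ _ _)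
        (Finset.mem_range.2 (by omega))
    rw [Nat.sub_zero, hε, xx_zero] at h1
    linarith
  · have hε' : ε = (-1) ^ m := by
      have h1 : ε * (-1) ^ (m - 1) = -1 := by
        rcases Int.units_eq_one_or (ε * (-1) ^ (m - 1)) with h | h
        · exact absurd h hε
        · exact h
      have h2 : ε = ε * (-1) ^ (m - 1) * (-1) ^ (m - 1) := by rw [mul_assoc, neg_one_pow_mul, mul_one]
      rw [h2, h1, ← pow_succ', Nat.sub_add_cancel (by omega)]
    have hsub : Finset.Ico (k + 1) (2 * k + 1) ⊆ Finset.range (2 * k + 1) := by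
      intro i hi
      rw [Finset.mem_Ico] at hi
      rw [Finset.mem_range]
      exact hi.2
    refine le_trans ?_ (Finset.sum_le_sum_of_subset_of_nonneg hsub fun _ _ _ => xx_nonneg _ _ _)
    have h1 : ∀ i ∈ Finset.Ico (k + 1) (2 * k + 1), 1 / (2 * k : ℝ) ≤ xx k (ε * (-1) ^ (m - i - 1)) i := by
      intro i hi
      rw [Finset.mem_Ico] at hi
      have h2 : (ε * (-1) ^ (m - i - 1)) * (-1) ^ (i - 1) = 1 := by
        rw [hε', ← pow_add, ← pow_add]
        have h3 : m + (m - i - 1) + (i - 1) = 2 * (m - 1) := by omega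
        rw [h3, pow_mul]
        simp
      refine le_trans ?_ (xx_one (by omega) h2)
      have h3 : (0 : ℝ) < i := by exact_mod_cast (by omega : 0 < i)
      have h4 : (i : ℝ) ≤ 2 * k := by exact_mod_cast (by omega : i ≤ 2 * k)
      exact one_div_le_one_div_of_le h3 h4
    refine le_trans ?_ (Finset.sum_le_sum h1)
    rw [Finset.sum_const, Nat.card_Ico, nsmul_eq_mul]
    have h2 : 2 * k + 1 - (k + 1) = k := by omega
    have h3 : (k : ℝ) ≠ 0 := by exact_mod_cast (by omega : k ≠ 0)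
    rw [h2]
    apply le_of_eq
    field_simp

/-- **The share of the permutations of given sign without cycles of length at most `k`.** -/
theorem xx_ge {k : ℕ} (hk : 1 ≤ k) : ∀ m : ℕ, 3 * k + 1 ≤ m → ∀ ε : ℤˣ, 1 / (10 * k : ℝ) ≤ xx k ε m := by
  intro m
  induction m using Nat.strong_induction_on with
  | _ m ih =>
    intro hm ε
    have hk0 : (0 : ℝ) < k := by exact_mod_cast (by omega : 0 < k)
    have hm0 : (0 : ℝ) < m := by exact_mod_cast (by omega : 0 < m)
    have h1 := xx_rec' k ε m (Finset.range (2 * k + 1) ∪ Finset.Ico (3 * k + 1) (m - k)) (by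
      intro i hi
      rw [Finset.mem_union, Finset.mem_range, Finset.mem_Ico] at hi
      omega)
    rw [Finset.sum_union (by
      rw [Finset.disjoint_left]
      intro i hi hi'
      rw [Finset.mem_range] at hi
      rw [Finset.mem_Ico] at hi'
      omega)] at h1
    have h2 := half_le hk hm ε
    have h3 : ((m - k - (3 * k + 1) : ℕ) : ℝ) * (1 / (10 * k)) ≤
        ∑ i ∈ Finset.Ico (3 * k + 1) (m - k), xx k (ε * (-1) ^ (m - i - 1)) i := by
      have h4 : ∀ i ∈ Finset.Ico (3 * k + 1) (m - k), 1 / (10 * k : ℝ) ≤ xx k (ε * (-1) ^ (m - i - 1)) i := by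
        intro i hi
        rw [Finset.mem_Ico] at hi
        exact ih i (by omega) hi.1 _
      refine le_trans (le_of_eq ?_) (Finset.sum_le_sum h4)
      rw [Finset.sum_const, Nat.card_Ico, nsmul_eq_mul]
    have h5 : (m : ℝ) * (1 / (10 * k)) ≤ m * xx k ε m := by
      refine le_trans ?_ h1
      refine le_trans ?_ (add_le_add h2 h3)
      have h6 : (m : ℝ) ≤ (5 * k : ℝ) + ((m - k - (3 * k + 1) : ℕ) : ℝ) := by
        have h7 : m ≤ 5 * k + (m - k - (3 * k + 1)) := by omega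
        exact_mod_cast h7
      have h8 : (m : ℝ) * (1 / (10 * k)) ≤ ((5 * k : ℝ) + ((m - k - (3 * k + 1) : ℕ) : ℝ)) * (1 / (10 * k)) :=
        mul_le_mul_of_nonneg_right h6 (by positivity)
      refine h8.trans (le_of_eq ?_)
      field_simp
      ring
    exact le_of_mul_le_mul_left h5 hm0

end Cfsg.Agent.H663.AltD
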