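import Cfsg.Agent.H663.AltD.Rec
import Cfsg.Agent.H851.Dg.Defs

/-!
# S5734, the alternating groups: lower bounds for the number of derangements (helper663)

* `two_index_ge` : a subgroup with an invariant set of `k` points has index at least `C(n, k) / 2`;
* `nd_ge_good`, `nd_ge_mk` : lower bounds for `nd K`.
-/

set_option autoImplicit false

namespace Cfsg.Agent.H663.AltD

open Equiv Equiv.Perm Cfsg.Agent.H851.Dg
open scoped Nat

variable {n : ℕ}

/-- `K` leaves `s` invariant -/
def Inv (K : Subgroup (alternatingGroup (Fin n))) (s : Finset (Fin n)) : Prop :=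
  ∀ x ∈ K, ∀ a, (x : Perm (Fin n)) a ∈ s ↔ a ∈ s

theorem Inv.card_le {K : Subgroup (alternatingGroup (Fin n))} {s : Finset (Fin n)} (h : Inv K s) :
    Nat.card K ≤ s.card ! * (n - s.card)! := by
  classical
  have h1 : Nat.card (Perm {a // a ∈ s}) = s.card ! := by
    rw [Nat.card_eq_fintype_card, Fintype.card_perm, Fintype.card_coe]
  have h2 : Nat.card (Perm {a // ¬ a ∈ s}) = (n - s.card)! := by
    rw [Nat.card_eq_fintype_card, Fintype.card_perm, Fintype.card_subtype_compl, Fintype.card_coe, Fintype.card_fin]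
  rw [← h1, ← h2, ← Nat.card_prod]
  refine Nat.card_le_card_of_injective (fun x : K =>
    (((x.1 : Perm (Fin n)).subtypePerm fun a => h x.1 x.2 a : Perm {a // a ∈ s}),
      ((x.1 : Perm (Fin n)).subtypePerm fun a => not_congr (h x.1 x.2 a) : Perm {a // ¬ a ∈ s}))) ?_
  intro x y hxy
  apply Subtype.ext
  apply Subtype.ext
  ext a
  by_cases ha : a ∈ s
  · have h3 := congrArg (fun t => ((t.1 ⟨a, ha⟩ : {a // a ∈ s}) : Fin n)) hxy
    exact congrArg Fin.val h3
  · have h3 := congrArg (fun t => ((t.2 ⟨a, ha⟩ : {a // ¬ a ∈ s}) : Fin n)) hxy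
    exact congrArg Fin.val h3

theorem two_mul_card (hn : 2 ≤ n) : 2 * Nat.card (alternatingGroup (Fin n)) = n ! := by
  have : Nontrivial (Fin n) := Fin.nontrivial_iff_two_le.2 hn
  rw [two_mul_nat_card_alternatingGroup, Nat.card_eq_fintype_card, Fintype.card_perm, Fintype.card_fin]

/-- **The index.** -/
theorem Inv.two_index_ge (hn : 2 ≤ n) {K : Subgroup (alternatingGroup (Fin n))} {s : Finset (Fin n)} (h : Inv K s) :
    n.choose s.card ≤ 2 * K.index := by
  have hs : s.card ≤ n := by
    have := s.card_le_univ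
    rwa [Fintype.card_fin] at this
  have h1 := two_mul_card hn
  rw [← K.index_mul_card, ← Nat.choose_mul_factorial_mul_factorial hs] at h1
  have h2 := h.card_le
  have h3 : 0 < s.card ! * (n - s.card)! := Nat.mul_pos (Nat.factorial_pos _) (Nat.factorial_pos _)
  refine Nat.le_of_mul_le_mul_right ?_ h3
  calc n.choose s.card * (s.card ! * (n - s.card)!) = 2 * (K.index * Nat.card K) := by rw [h1, mul_assoc]
    _ ≤ 2 * (K.index * (s.card ! * (n - s.card)!)) := by gcongr
    _ = 2 * K.index * (s.card ! * (n - s.card)!) := by ring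

/-- an invariant set for a conjugate -/
theorem Inv.conj {K : Subgroup (alternatingGroup (Fin n))} {s : Finset (Fin n)} (h : Inv K s)
    {x g : alternatingGroup (Fin n)} (hx : g * x * g⁻¹ ∈ K) :
    ∃ t : Finset (Fin n), t.card = s.card ∧ ∀ a, (x : Perm (Fin n)) a ∈ t ↔ a ∈ t := by
  classical
  refine ⟨s.map (g⁻¹ : alternatingGroup (Fin n)).1.toEmbedding, Finset.card_map _, fun a => ?_⟩
  have key : ∀ b : Fin n, b ∈ s.map (g⁻¹ : alternatingGroup (Fin n)).1.toEmbedding ↔ g.1 b ∈ s := by
    intro b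
    rw [Finset.mem_map_equiv]
    rfl
  rw [key, key]
  have h1 := h _ hx (g.1 a)
  have h2 : ((g * x * g⁻¹ : alternatingGroup (Fin n)) : Perm (Fin n)) (g.1 a) = g.1 ((x : Perm (Fin n)) a) := by
    change g.1 (x.1 ((g.1)⁻¹ (g.1 a))) = _
    have h3 : (g.1)⁻¹ (g.1 a) = a := by rw [← Perm.mul_apply, inv_mul_cancel, Perm.one_apply]
    rw [h3]
  rw [h2] at h1
  exact h1

theorem pow_mem_iff {g : Perm (Fin n)} {t : Finset (Fin n)} (h : ∀ a, g a ∈ t ↔ a ∈ t) (i : ℕ) (a : Fin n) :
    (g ^ i) a ∈ t ↔ a ∈ t := by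
  induction i generalizing a with
  | zero => simp
  | succ i ih => rw [pow_succ, Perm.mul_apply, ih, h]

/-- a good permutation has no invariant set of size `k` -/
theorem Good.not_inv {k : ℕ} {g : Perm (Fin n)} (hg : Good k g) {t : Finset (Fin n)} (h0 : 0 < t.card)
    (ht : t.card ≤ k) (h : ∀ a, g a ∈ t ↔ a ∈ t) : False := by
  classical
  obtain ⟨a, ha⟩ := Finset.card_pos.1 h0
  -- the `k + 1` points `g ^ i a` are in `t`
  have h1 : ∃ i ∈ Finset.range (t.card + 1), ∃ j ∈ Finset.range (t.card + 1), i ≠ j ∧ (g ^ i) a = (g ^ j) a := by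
    apply Finset.exists_ne_map_eq_of_card_lt_of_maps_to (t := t)
    · rw [Finset.card_range]
      omega
    · intro i _
      exact (pow_mem_iff h i a).2 ha
  obtain ⟨i, hi, j, hj, hij, h2⟩ := h1
  rw [Finset.mem_range] at hi hj
  rcases lt_or_gt_of_ne hij with h3 | h3
  · apply hg (j - i) (by omega) (by omega) a
    have h4 : (g ^ i) ((g ^ (j - i)) a) = (g ^ i) a := by
      rw [← Perm.mul_apply, ← pow_add, Nat.add_sub_cancel' h3.le, h2]
    exact (g ^ i).injective h4
  · apply hg (i - j) (by omega) (by omega) a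
    have h4 : (g ^ j) ((g ^ (i - j)) a) = (g ^ j) a := by
      rw [← Perm.mul_apply, ← pow_add, Nat.add_sub_cancel' h3.le, h2]
    exact (g ^ j).injective h4

/-- **The first lower bound.** -/
theorem Inv.nd_ge_good {K : Subgroup (alternatingGroup (Fin n))} {s : Finset (Fin n)} (h : Inv K s)
    (h0 : 0 < s.card) : XX s.card 1 n ≤ nd K := by
  have h1 : XX s.card 1 n = Nat.card {x : alternatingGroup (Fin n) | Good s.card x.1} := by
    rw [XX]
    refine Nat.card_congr ⟨fun g => ⟨⟨g.1, g.2.2⟩, g.2.1⟩, fun x => ⟨x.1.1, x.2, x.1.2⟩, fun _ => rfl, fun _ => rfl⟩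
  rw [h1]
  refine card_le_nd fun x hx g hg => ?_
  obtain ⟨t, ht, hxt⟩ := h.conj hg
  exact Good.not_inv hx (by omega) ht.le hxt

/-! ### Permutations with a given cycle -/

theorem card_sign_eq {r : ℕ} (hr : 2 ≤ r) (δ : ℤˣ) : 2 * Nat.card {h : Perm (Fin r) // sign h = δ} = r ! := by
  have hnt : Nontrivial (Fin r) := Fin.nontrivial_iff_two_le.2 hr
  have h1 : ∀ δ : ℤˣ, Nat.card {h : Perm (Fin r) // sign h = δ} = Nat.card (alternatingGroup (Fin r)) := by
    intro δ
    obtain ⟨σ, hσ⟩ := sign_surjective (Fin r) δ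
    refine Nat.card_congr ⟨fun h => ⟨σ⁻¹ * h.1, ?_⟩, fun h => ⟨σ * h.1, ?_⟩, fun h => ?_, fun h => ?_⟩
    · rw [mem_alternatingGroup, Perm.sign_mul, sign_inv, hσ, h.2, units_mul_self]
    · rw [Perm.sign_mul, mem_alternatingGroup.1 h.2, hσ, mul_one]
    · exact Subtype.ext (mul_inv_cancel_left _ _)
    · exact Subtype.ext (inv_mul_cancel_left _ _)
  rw [h1, two_mul_card hr]

/-- the elements of the alternating group with an `(l + 1)`-cycle -/
def TT (n l r : ℕ) : Set (alternatingGroup (Fin n)) :=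
  {x | ∃ (e : Fin (l + 1) ⊕ Fin r ≃ Fin n) (h : Perm (Fin r)), (x : Perm (Fin n)) = mk e h}

theorem card_TT {l r : ℕ} (hr : 2 ≤ r) (hn : l + 1 + r = n) :
    Nat.card (alternatingGroup (Fin n)) ≤ n * Nat.card (TT n l r) := by
  have h1 := count hn fun h => sign h = (-1) ^ l
  have h2 := card_sign_eq hr ((-1) ^ l)
  have h3 := two_mul_card (n := n) (by omega)
  have h4 : Nat.card (PS n l r fun h => sign h = (-1) ^ l) ≤ n * Nat.card (TT n l r) := by
    have h5 : n * Nat.card (TT n l r) = Nat.card (Fin n × TT n l r) := by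
      rw [Nat.card_prod, Nat.card_eq_fintype_card (α := Fin n), Fintype.card_fin]
    rw [h5]
    have hm : ∀ x : PS n l r fun h => sign h = (-1) ^ l, x.1.1 ∈ alternatingGroup (Fin n) := by
      intro x
      obtain ⟨e, h, hh, hx⟩ := x.2
      rw [hx, mem_alternatingGroup, sign_mk, hh, units_mul_self]
    have hm' : ∀ x : PS n l r fun h => sign h = (-1) ^ l,
        (⟨x.1.1, hm x⟩ : alternatingGroup (Fin n)) ∈ TT n l r := by
      intro x
      obtain ⟨e, h, hh, hx⟩ := x.2
      exact ⟨e, h, congrArg Prod.fst hx⟩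
    refine Nat.card_le_card_of_injective (fun x => (x.1.2, ⟨⟨x.1.1, hm x⟩, hm' x⟩)) ?_
    · intro x y hxy
      have h6 := congrArg Prod.fst hxy
      have h7 := congrArg (fun t => t.2.1.1) hxy
      exact Subtype.ext (Prod.ext h7 h6)
  have h5 : 0 < r ! := Nat.factorial_pos r
  have h6 : r ! * Nat.card (alternatingGroup (Fin n)) ≤ r ! * Nat.card (PS n l r fun h => sign h = (-1) ^ l) := by
    refine le_trans (le_of_eq ?_) h1
    have h7 : 2 * (r ! * Nat.card (alternatingGroup (Fin n))) =
        2 * (n ! * Nat.card {h : Perm (Fin r) // sign h = (-1) ^ l}) := by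
      calc 2 * (r ! * Nat.card (alternatingGroup (Fin n))) = r ! * (2 * Nat.card (alternatingGroup (Fin n))) := by ring
        _ = (2 * Nat.card {h : Perm (Fin r) // sign h = (-1) ^ l}) * n ! := by rw [h2, h3]
        _ = _ := by ring
    omega
  exact (Nat.le_of_mul_le_mul_left h6 h5).trans h4

/-- a permutation with an `(l + 1)`-cycle has no invariant set of size `k`, `n - (l + 1) < k < l + 1` -/
theorem mk_not_inv {l r : ℕ} {e : Fin (l + 1) ⊕ Fin r ≃ Fin n} {h : Perm (Fin r)} {t : Finset (Fin n)}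
    (h1 : r < t.card) (h2 : t.card < l + 1) (ht : ∀ a, mk e h a ∈ t ↔ a ∈ t) : False := by
  classical
  have key : ∀ i : Fin (l + 1), e (Sum.inl i) ∈ t ↔ e (Sum.inl 0) ∈ t := by
    intro i
    induction i using Fin.induction with
    | zero => rfl
    | succ i ih => rw [← Fin.coeSucc_eq_succ, ← mk_inl e h, ht, ih]
  by_cases h0 : e (Sum.inl 0) ∈ t
  · have h3 : (Finset.univ : Finset (Fin (l + 1))).card ≤ t.card := by
      refine Finset.card_le_card_of_injOn (fun i => e (Sum.inl i)) (fun i _ => (key i).2 h0) ?_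
      intro i _ j _ hij
      exact Sum.inl_injective (e.injective hij)
    rw [Finset.card_univ, Fintype.card_fin] at h3
    omega
  · have h3 : t.card ≤ (Finset.univ : Finset (Fin r)).card := by
      have h4 : t ⊆ (Finset.univ : Finset (Fin r)).image fun i => e (Sum.inr i) := by
        intro a ha
        obtain ⟨x, rfl⟩ := e.surjective a
        cases x with
        | inl x => exact absurd ((key x).1 ha) h0
        | inr x => exact Finset.mem_image.2 ⟨x, Finset.mem_univ _, rfl⟩
      exact (Finset.card_le_card h4).trans Finset.card_image_le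
    rw [Finset.card_univ, Fintype.card_fin] at h3
    omega

/-- **The second lower bound.** -/
theorem Inv.nd_ge_mk {K : Subgroup (alternatingGroup (Fin n))} {s : Finset (Fin n)} (h : Inv K s)
    (h3 : 3 ≤ s.card) (hs : s.card + 2 < n) : Nat.card (alternatingGroup (Fin n)) ≤ n * nd K := by
  refine (card_TT (l := n - 3) (r := 2) le_rfl (by omega)).trans (Nat.mul_le_mul_left _ ?_)
  refine card_le_nd fun x hx g hg => ?_
  obtain ⟨t, ht, hxt⟩ := h.conj hg
  obtain ⟨e, h, hx⟩ := hx
  rw [hx] at hxt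
  exact mk_not_inv (by omega) (by omega) hxt

end Cfsg.Agent.H663.AltD
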