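import Cfsg.Agent.H663.AltD.Sets
import Cfsg.Agent.S0713

/-!
# S5734, the alternating groups: transitive subgroups (helper663)

* `not_dvd` : a prime `p`, `n < 2 p`, `p + 3 ≤ n`, does not divide the order of a proper transitive subgroup of `A_n`;
* `index_ge` : so its index is at least the product of these primes;
* `nd_ge` : `|A_n| ≤ n * nd K`.
-/

set_option autoImplicit false

namespace Cfsg.Agent.H663.AltD

open Equiv Equiv.Perm Cfsg.Agent.H851.Dg MulAction
open scoped Nat Pointwise

variable {n : ℕ}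

/-- a transitive group of degree `n` with an element of prime order `p`, `n < 2 p`, is primitive -/
theorem preprim {G : Subgroup (Perm (Fin n))} (ht : ∀ a b : Fin n, ∃ x ∈ G, x a = b) {p : ℕ} (hp : p.Prime)
    (hn : n < 2 * p) {g : Perm (Fin n)} (hg : g ∈ G) (hgp : orderOf g = p) : IsPreprimitive G (Fin n) := by
  classical
  have hcyc : g.IsCycle := isCycle_of_prime_order' (by rw [hgp]; exact hp) (by rw [hgp, Fintype.card_fin]; exact hn)
  have hpre : IsPretransitive G (Fin n) := ⟨fun a b => by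
    obtain ⟨x, hx, hxa⟩ := ht a b
    exact ⟨⟨x, hx⟩, hxa⟩⟩
  refine { hpre with isTrivialBlock_of_isBlock := fun {B} hB => ?_ }
  by_cases hsub : B.Subsingleton
  · exact Or.inl hsub
  · right
    rw [Set.not_subsingleton_iff] at hsub
    obtain ⟨b, hb, b', hb', hbb⟩ := hsub
    -- a point moved by `g`
    obtain ⟨c, hc, hall⟩ := hcyc
    have hcyc : g.IsCycle := ⟨c, hc, hall⟩
    obtain ⟨x, hx, hxb⟩ := ht b c
    let y : G := ⟨x, hx⟩
    let g' : G := ⟨g, hg⟩
    have hB1 : IsBlock G (y • B) := hB.translate y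
    have hcB : c ∈ y • B := ⟨b, hb, hxb⟩
    have hcB' : x b' ∈ y • B := ⟨b', hb', rfl⟩
    have hcc : c ≠ x b' := by
      rw [← hxb]
      exact fun h => hbb (x.injective h)
    -- `g` stabilises `y • B`
    have hstab : g' • (y • B) = y • B := by
      by_cases hfix : g (x b') = x b'
      · exact hB1.smul_eq_of_mem (g := g') hcB' (by
          change g (x b') ∈ y • B
          rw [hfix]; exact hcB')
      · obtain ⟨i, hi⟩ := hall hfix
        have h1 : (g' ^ i) • (y • B) = y • B := hB1.smul_eq_of_mem (g := g' ^ i) hcB (by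
          have h2 : (g' ^ i) • c = (g ^ i) c := rfl
          rw [h2, hi]; exact hcB')
        have h2 : ¬ (p : ℤ) ∣ i := by
          rintro ⟨j, rfl⟩
          apply hcc
          rw [← hi, zpow_mul, zpow_natCast, ← hgp, pow_orderOf_eq_one, one_zpow, Perm.one_apply]
        have h3 : IsCoprime (p : ℤ) i := by
          rw [Int.isCoprime_iff_gcd_eq_one]
          have := (Nat.coprime_primes hp hp)
          exact (Int.isCoprime_iff_gcd_eq_one.1 ((Nat.prime_iff_prime_int.1 hp).coprime_iff_not_dvd.2 h2))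
        obtain ⟨u, v, huv⟩ := h3
        have h4 : g' = (g' ^ i) ^ v := by
          have h5 : g' ^ (p : ℤ) = 1 := by
            rw [zpow_natCast]
            apply Subtype.ext
            rw [Subgroup.coe_pow, ← hgp]
            exact pow_orderOf_eq_one g
          calc g' = g' ^ (u * (p : ℤ) + v * i) := by rw [huv, zpow_one]
            _ = (g' ^ i) ^ v := by rw [zpow_add, mul_comm u, zpow_mul, h5, one_zpow, one_mul, mul_comm v, zpow_mul]
        have h5 : g' ^ i ∈ stabilizer G (y • B) := h1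
        have h6 := (stabilizer G (y • B)).zpow_mem h5 v
        rw [← h4] at h6
        exact h6
    -- so it contains the cycle
    have hsupp : (g.support : Set (Fin n)) ⊆ y • B := by
      intro a ha
      have ha' : g a ≠ a := Perm.mem_support.1 ha
      obtain ⟨i, hi⟩ := hall ha'
      have h6 := (stabilizer G (y • B)).zpow_mem (hstab : g' ∈ stabilizer G (y • B)) i
      have h7 : (g' ^ i) • (y • B) = y • B := h6
      rw [← h7]
      exact ⟨c, hcB, hi⟩
    have hcard : g.support.card = p := by rw [← hcyc.orderOf, hgp]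
    have h1 : p ≤ Set.ncard (y • B) := by
      rw [← hcard, ← Set.ncard_coe_finset]
      exact Set.ncard_le_ncard hsupp (Set.toFinite _)
    have h2 : y • B = Set.univ := hB1.eq_univ_of_card_lt (by
      rw [Nat.card_eq_fintype_card, Fintype.card_fin]; omega)
    have h3 : B = y⁻¹ • (Set.univ : Set (Fin n)) := by rw [← h2, inv_smul_smul]
    rw [h3, Set.smul_set_univ]

/-- **The primes missing in the order of a proper transitive subgroup.** -/
theorem not_dvd {K : Subgroup (alternatingGroup (Fin n))} (hK : K ≠ ⊤)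
    (ht : ∀ a b : Fin n, ∃ x ∈ K, (x : Perm (Fin n)) a = b) {p : ℕ} (hp : p.Prime) (hn : n < 2 * p)
    (hpn : p + 3 ≤ n) : ¬ p ∣ Nat.card K := by
  intro hdvd
  have : Fact p.Prime := ⟨hp⟩
  obtain ⟨z, hz⟩ := exists_prime_orderOf_dvd_card' (G := K) p hdvd
  let G : Subgroup (Perm (Fin n)) := K.map (alternatingGroup (Fin n)).subtype
  let g : Perm (Fin n) := ((z : alternatingGroup (Fin n)) : Perm (Fin n))
  have hgG : g ∈ G := ⟨z.1, z.2, rfl⟩
  have hgp : orderOf g = p := by
    rw [← hz, ← Subgroup.orderOf_coe z, ← Subgroup.orderOf_coe z.1]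
  have htG : ∀ a b : Fin n, ∃ x ∈ G, x a = b := by
    intro a b
    obtain ⟨x, hx, hxa⟩ := ht a b
    exact ⟨x, ⟨x, hx, rfl⟩, hxa⟩
  have hprim := preprim htG hp hn hgG hgp
  have hcyc : g.IsCycle := isCycle_of_prime_order' (by rw [hgp]; exact hp) (by rw [hgp, Fintype.card_fin]; exact hn)
  have hp2 := hp.two_le
  have h1 := Cfsg.Agent.S0713.result G hprim hp (by rw [Fintype.card_fin]; omega) (by rw [Fintype.card_fin]; exact hpn)
    hcyc (by rw [← hcyc.orderOf, hgp]) hgG
  apply hK
  rw [eq_top_iff]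
  intro x _
  obtain ⟨y, hy, hyx⟩ := h1 x.2
  have h2 : y = x := Subtype.ext hyx
  rw [← h2]
  exact hy

/-- the primes `p` with `n < 2 p`, `p + 3 ≤ n` -/
def prs (n : ℕ) : Finset ℕ := (Finset.range (n - 2)).filter fun p => p.Prime ∧ n < 2 * p

theorem mem_prs {p : ℕ} : p ∈ prs n ↔ p + 3 ≤ n ∧ p.Prime ∧ n < 2 * p := by
  rw [prs, Finset.mem_filter, Finset.mem_range]
  constructor
  · rintro ⟨h1, h2⟩
    exact ⟨by omega, h2⟩
  · rintro ⟨h1, h2⟩
    exact ⟨by omega, h2⟩

theorem index_ge {K : Subgroup (alternatingGroup (Fin n))} (hK : K ≠ ⊤)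
    (ht : ∀ a b : Fin n, ∃ x ∈ K, (x : Perm (Fin n)) a = b) : ∏ p ∈ prs n, p ≤ K.index := by
  apply Nat.le_of_dvd (Nat.pos_of_ne_zero Subgroup.index_ne_zero_of_finite)
  apply Finset.prod_primes_dvd
  · intro p hp
    exact (mem_prs.1 hp).2.1.prime
  · intro p hp
    obtain ⟨h1, h2, h3⟩ := mem_prs.1 hp
    have h4 : p ∣ 2 * Nat.card (alternatingGroup (Fin n)) := by
      rw [two_mul_card (by omega)]
      exact (h2.dvd_factorial).2 (by omega)
    have h5 : ¬ p ∣ 2 := by
      intro h6
      have := Nat.le_of_dvd (by norm_num) h6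
      omega
    have h6 := (h2.dvd_mul.1 h4).resolve_left h5
    rw [← K.index_mul_card] at h6
    exact (h2.dvd_mul.1 h6).resolve_right (not_dvd hK ht h2 h3 h1)

theorem nd_ge {K : Subgroup (alternatingGroup (Fin n))} (hK : K ≠ ⊤)
    (ht : ∀ a b : Fin n, ∃ x ∈ K, (x : Perm (Fin n)) a = b) (hne : (prs n).Nonempty) :
    Nat.card (alternatingGroup (Fin n)) ≤ n * nd K := by
  obtain ⟨p, hp⟩ := hne
  obtain ⟨h1, h2, h3⟩ := mem_prs.1 hp
  have h4 := h2.two_le
  refine (card_TT (l := p - 1) (r := n - p) (by omega) (by omega)).trans (Nat.mul_le_mul_left _ ?_)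
  refine le_trans ?_ (singular_le_nd (not_dvd hK ht h2 h3 h1))
  refine Nat.card_mono (Set.toFinite {x : alternatingGroup (Fin n) | p ∣ orderOf x}) ?_
  rintro x ⟨e, h, hx⟩
  have h5 := pow_orderOf_eq_one (x : Perm (Fin n))
  rw [hx] at h5
  have h6 := mk_pow_inl e h (orderOf (mk e h)) 0
  rw [h5, Perm.one_apply] at h6
  have h7 := congrArg Fin.val (Sum.inl_injective (e.injective h6))
  rw [val_rot, Fin.val_zero, Nat.zero_add, Nat.sub_add_cancel (by omega)] at h7
  change p ∣ orderOf x
  rw [← Subgroup.orderOf_coe, hx]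
  exact Nat.dvd_of_mod_eq_zero h7.symm

end Cfsg.Agent.H663.AltD
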